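import Mathlib
import Groth.Agent.WeakAssLib.Basic
import Groth.Agent.WeakAssLib.Flat

/-!
# Weakly associated primes along geometrically integral and flat base change
-/

set_option autoImplicit false
set_option backward.isDefEq.respectTransparency false
set_option linter.style.haveILetI false

universe u

open TensorProduct Groth.Agent.WeakAssLib

namespace Groth.Agent.WeakAssFieldLib

/-- A family of maps detecting annihilators detects weakly associated primes. -/
theorem exists_wit_of_family {R N M : Type*} [CommRing R] [AddCommGroup N] [Module R N] [AddCommGroup M] [Module R M]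
    {ι : Type*} (s : Finset ι) (π : ι → N →ₗ[R] M) {p : Ideal R} (hp : p.IsPrime) {z : N}
    (hz : ∀ a : R, (∀ i ∈ s, a • π i z = 0) → a • z = 0) (hw : Wit p z) : ∃ i ∈ s, Wit p (π i z) := by
  classical
  have hex : ∃ i ∈ s, ∀ r : R, r • π i z = 0 → r ∈ p := by
    by_contra hc
    push Not at hc
    choose a ha hap using hc
    refine (fun h => ?_ : (∏ i ∈ s.attach, a i.1 i.2) ∈ p → False) (hw.le _ (hz _ fun i hi => ?_))
    · obtain ⟨i, -, hi⟩ := hp.prod_mem_iff.1 h
      exact hap i.1 i.2 hi
    · rw [← Finset.mul_prod_erase _ _ (Finset.mem_attach s ⟨i, hi⟩), mul_comm, mul_smul, ha i hi, smul_zero]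
  obtain ⟨i, hi, hle⟩ := hex
  refine ⟨i, hi, hle, fun x hx => ?_⟩
  obtain ⟨t, ht, n, hn⟩ := hw.pow x hx
  exact ⟨t, ht, n, by rw [← map_smul, hn, map_zero]⟩

/-- Going down for weakly associated primes along a flat ring map. -/
theorem under_minimalPrimes_of_flat {A B M : Type u} [CommRing A] [CommRing B] [Algebra A B] [Module.Flat A B]
    [AddCommGroup M] [Module A M] (n : M) (q : Ideal B)
    (hq : q ∈ (Submodule.span B {(1 : B) ⊗ₜ[A] n}).annihilator.minimalPrimes) :
    q.under A ∈ (Submodule.span A {n}).annihilator.minimalPrimes := by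
  rw [annihilator_one_tmul] at hq
  haveI := hq.1.1
  haveI : Algebra.HasGoingDown A B := Algebra.HasGoingDown.of_flat
  refine ⟨⟨inferInstance, Ideal.map_le_iff_le_comap.1 hq.1.2⟩, fun p' ⟨hp', hle⟩ hp'q => ?_⟩
  haveI := hp'
  obtain ⟨Q, hQq, hQ, hQp'⟩ := Ideal.exists_ideal_le_liesOver_of_le (p := p') (q := q.under A) q hp'q
  have h1 := hq.2 ⟨hQ, Ideal.map_le_iff_le_comap.2 (hle.trans hQp'.over.le)⟩ hQq
  rw [hQp'.over]
  exact Ideal.comap_mono h1

variable {k R P : Type u} [Field k] [CommRing R] [Algebra k R] [CommRing P] [Algebra k P]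
  {M : Type u} [AddCommGroup M] [Module R M]

/-- McCoy's lemma: a function nonzero in the fibre over `p` kills no element that is nonzero at `p`. -/
theorem exists_smul_eq_zero_of_fibre {ι : Type*} (bP : Module.Basis ι k P) (p : Ideal R) [p.IsPrime]
    [IsDomain (p.ResidueField ⊗[k] P)] (f : R ⊗[k] P) (z : (R ⊗[k] P) ⊗[R] M) (hfz : f • z = 0)
    (hf : Algebra.TensorProduct.map (Algebra.ofId R p.ResidueField) (AlgHom.id k P) f ≠ 0) :
    ∃ a ∉ p, a • z = 0 := by
  classical
  let b : Module.Basis ι R (R ⊗[k] P) := Algebra.TensorProduct.basis R bP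
  let E : (R ⊗[k] P) ⊗[R] M ≃ₗ[R] ι →₀ M := TensorProduct.equivFinsuppOfBasisLeft b
  let c := E z
  let N₀ : Submodule R M := Submodule.span R ((c.support.image c : Finset M) : Set M)
  haveI : Module.Finite R N₀ := Module.Finite.iff_fg.2 ⟨_, rfl⟩
  let n : ι → N₀ := fun i =>
    if h : i ∈ c.support then ⟨c i, Submodule.subset_span (Finset.mem_image_of_mem c h)⟩ else 0
  let z' : (R ⊗[k] P) ⊗[R] N₀ := ∑ i ∈ c.support, b i ⊗ₜ[R] n i
  have hz' : N₀.subtype.baseChange (R ⊗[k] P) z' = z := by
    simp only [z', map_sum, LinearMap.baseChange_tmul]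
    conv_rhs => rw [← E.symm_apply_apply z]
    rw [show E.symm (E z) = c.sum (fun i m => b i ⊗ₜ[R] m) from TensorProduct.equivFinsuppOfBasisLeft_symm_apply b c]
    exact Finset.sum_congr rfl fun i hi => by simp only [n, dif_pos hi, Submodule.subtype_apply]
  haveI : Module.Flat R (R ⊗[k] P) := by
    haveI := Module.Free.of_basis b
    infer_instance
  have hfz' : f • z' = 0 := by
    refine Module.Flat.lTensor_preserves_injective_linearMap (M := R ⊗[k] P) N₀.subtype Subtype.val_injective ?_
    rw [← LinearMap.baseChange_eq_ltensor, map_smul, hz', hfz, map_zero]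
  let π : R ⊗[k] P →ₐ[R] p.ResidueField ⊗[k] P :=
    Algebra.TensorProduct.map (Algebra.ofId R p.ResidueField) (AlgHom.id k P)
  have key : ∀ (φ : N₀ →ₗ[R] p.ResidueField) (i : ι), i ∈ c.support → φ (n i) = 0 := by
    intro φ i hi
    let Ψ : (R ⊗[k] P) ⊗[R] N₀ →ₗ[R] p.ResidueField ⊗[k] P :=
      TensorProduct.lift (((LinearMap.mul R _).comp π.toLinearMap).compl₂
        (((IsScalarTower.toAlgHom R p.ResidueField (p.ResidueField ⊗[k] P)).toLinearMap).comp φ))
    have hΨ : ∀ (x : R ⊗[k] P) (y), Ψ (x • y) = π x * Ψ y := by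
      intro x y
      induction y using TensorProduct.induction_on with
      | zero => simp
      | add y₁ y₂ h₁ h₂ => rw [smul_add, map_add, map_add, h₁, h₂, mul_add]
      | tmul w m =>
        rw [TensorProduct.smul_tmul', smul_eq_mul]
        simp only [Ψ, TensorProduct.lift.tmul, LinearMap.compl₂_apply, LinearMap.comp_apply, LinearMap.mul_apply',
          AlgHom.toLinearMap_apply, map_mul, mul_assoc]
    have h0 : π f * Ψ z' = 0 := by rw [← hΨ, hfz', map_zero]
    have h1 := (mul_eq_zero.1 h0).resolve_left hf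
    simp only [z', map_sum, Ψ, TensorProduct.lift.tmul, LinearMap.compl₂_apply, LinearMap.comp_apply,
      LinearMap.mul_apply', AlgHom.toLinearMap_apply] at h1
    have h2 : ∑ j ∈ c.support, φ (n j) • Algebra.TensorProduct.basis p.ResidueField bP j = 0 := by
      refine Eq.trans (Finset.sum_congr rfl fun j _ => ?_) h1
      simp [b, π, Algebra.TensorProduct.basis_apply, Algebra.smul_def, mul_comm]
    exact linearIndependent_iff'.1 (Algebra.TensorProduct.basis p.ResidueField bP).linearIndependent _ _ h2 i hi
  have hzero : ∀ φ : N₀ →ₗ[R] p.ResidueField, φ = 0 := by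
    intro φ
    refine LinearMap.ext_on (s := n '' c.support) ?_ ?_
    · refine Submodule.map_injective_of_injective (f := N₀.subtype) Subtype.val_injective ?_
      rw [Submodule.map_span, Submodule.map_top, Submodule.range_subtype, ← Set.image_comp]
      simp only [N₀, Finset.coe_image]
      exact congrArg _ (Set.image_congr fun i hi => by
        simp only [Function.comp_apply, n, dif_pos (Finset.mem_coe.1 hi), Submodule.subtype_apply])
    · rintro _ ⟨i, hi, rfl⟩
      exact key φ i hi
  have hsub : Subsingleton (p.ResidueField ⊗[R] N₀) := by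
    refine subsingleton_of_forall_eq 0 fun w => (Module.forall_dual_apply_eq_zero_iff p.ResidueField w).1 fun ξ => ?_
    have h1 := hzero ((ξ.restrictScalars R).comp (TensorProduct.mk R p.ResidueField N₀ 1))
    have h2 : ξ = 0 := TensorProduct.AlgebraTensorModule.ext fun a m => by
      have h3 : ξ (1 ⊗ₜ m) = 0 := LinearMap.congr_fun h1 m
      rw [← mul_one a, ← smul_eq_mul, ← TensorProduct.smul_tmul', map_smul, h3, smul_zero, LinearMap.zero_apply]
    rw [h2, LinearMap.zero_apply]
  have hns : (⟨p, inferInstance⟩ : PrimeSpectrum R) ∉ Module.support R N₀ := by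
    rw [Module.mem_support_iff_nontrivial_residueField_tensorProduct]
    exact not_nontrivial_iff_subsingleton.2 hsub
  rw [Module.mem_support_iff_of_finite, SetLike.not_le_iff_exists] at hns
  obtain ⟨a, ha, hap⟩ := hns
  refine ⟨a, hap, ?_⟩
  rw [← hz', ← LinearMap.map_smul_of_tower]
  have : a • z' = 0 := by
    simp only [z', Finset.smul_sum, ← TensorProduct.tmul_smul, Module.mem_annihilator.1 ha, TensorProduct.tmul_zero,
      Finset.sum_const_zero]
  rw [this, map_zero]

/-- Contraction of weakly associated primes along a geometrically integral extension of scalars. -/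
theorem under_mem_weakAss_geomIntegral (hP : ∀ (κ : Type u) [Field κ] [Algebra k κ], IsDomain (κ ⊗[k] P))
    (q : Ideal (R ⊗[k] P)) (hq : q ∈ FlatCA.weakAss (R ⊗[k] P) ((R ⊗[k] P) ⊗[R] M)) :
    q.under R ∈ FlatCA.weakAss R M := by
  classical
  obtain ⟨hqp, z, hz⟩ := mem_weakAss.1 hq
  haveI := hqp
  haveI := hP (q.under R).ResidueField
  let bP := Module.Free.chooseBasis k P
  let b : Module.Basis _ R (R ⊗[k] P) := Algebra.TensorProduct.basis R bP
  -- functions vanishing in the fibre lie in `q`
  have hker : ∀ x : R ⊗[k] P,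
      Algebra.TensorProduct.map (Algebra.ofId R (q.under R).ResidueField) (AlgHom.id k P) x = 0 → x ∈ q := by
    intro x hx
    rw [← b.linearCombination_repr x, Finsupp.linearCombination_apply, Finsupp.sum] at hx ⊢
    rw [map_sum] at hx
    simp only [map_smul, b, Algebra.TensorProduct.basis_apply, Algebra.TensorProduct.map_tmul, map_one,
      AlgHom.id_apply] at hx
    have hx' : ∑ i ∈ (b.repr x).support, algebraMap R (q.under R).ResidueField (b.repr x i) •
        Algebra.TensorProduct.basis (q.under R).ResidueField bP i = 0 := by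
      refine Eq.trans (Finset.sum_congr rfl fun i _ => ?_) hx
      rw [Algebra.TensorProduct.basis_apply, algebraMap_smul]
    refine Ideal.sum_mem _ fun i hi => ?_
    have h1 := linearIndependent_iff'.1 (Algebra.TensorProduct.basis (q.under R).ResidueField bP).linearIndependent _ _ hx' i hi
    rw [Ideal.algebraMap_residueField_eq_zero] at h1
    rw [Algebra.smul_def]
    exact q.mul_mem_right _ h1
  have hw : Wit (q.under R) z := by
    refine ⟨fun r hr => hz.le _ (by rwa [algebraMap_smul]), fun x hx => ?_⟩
    obtain ⟨t, ht, n, hn⟩ := hz.pow _ (show algebraMap R (R ⊗[k] P) x ∈ q from hx)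
    rw [← map_pow, mul_smul, algebraMap_smul] at hn
    obtain ⟨a, ha, haz⟩ := exists_smul_eq_zero_of_fibre bP (q.under R) t (x ^ n • z) hn (fun h => ht (hker t h))
    exact ⟨a, ha, n, by rw [mul_smul, haz]⟩
  let E : (R ⊗[k] P) ⊗[R] M ≃ₗ[R] _ →₀ M := TensorProduct.equivFinsuppOfBasisLeft b
  obtain ⟨i, -, hi⟩ := exists_wit_of_family (E z).support (fun i => (Finsupp.lapply i).comp E.toLinearMap)
    inferInstance (z := z) (fun a ha => by
      refine E.injective (Finsupp.ext fun i => ?_)
      by_cases hi : i ∈ (E z).support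
      · simpa using ha i hi
      · rw [map_zero, map_smul, Finsupp.smul_apply, Finsupp.notMem_support_iff.1 hi, smul_zero]
        rfl) hw
  exact mem_weakAss.2 ⟨inferInstance, _, hi⟩

end Groth.Agent.WeakAssFieldLib
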