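import Mathlib
import Groth.Agent.WeakAssFieldLib.Poly
import Groth.Agent.CAlgBasics.TorsionFree

/-!
# Weakly associated primes descend along field extensions
-/

set_option autoImplicit false
set_option backward.isDefEq.respectTransparency false
set_option linter.style.haveILetI false

universe u

open TensorProduct Groth.Agent Groth.Agent.WeakAssLib

namespace Groth.Agent.WeakAssFieldLib

variable {k R : Type u} [Field k] [CommRing R] [Algebra k R] {M : Type u} [AddCommGroup M] [Module R M]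

/-- Contraction of weakly associated primes along extension by an affine domain. -/
theorem under_mem_weakAss_fg {A : Type u} [CommRing A] [IsDomain A] [Algebra k A] [Algebra.FiniteType k A]
    (q : Ideal (R ⊗[k] A)) (hq : q ∈ FlatCA.weakAss (R ⊗[k] A) ((R ⊗[k] A) ⊗[R] M)) :
    q.under R ∈ FlatCA.weakAss R M := by
  classical
  haveI : q.IsPrime := (mem_weakAss.1 hq).1
  obtain ⟨d, g, hg, hgfin⟩ := exists_finite_inj_algHom_of_fg k A
  letI : Algebra (MvPolynomial (Fin d) k) A := g.toRingHom.toAlgebra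
  haveI : IsScalarTower k (MvPolynomial (Fin d) k) A := .of_algebraMap_eq fun x => (g.commutes x).symm
  haveI : Module.Finite (MvPolynomial (Fin d) k) A := hgfin
  haveI : Module.IsTorsionFree (MvPolynomial (Fin d) k) A := Module.isTorsionFree_iff_algebraMap_injective.2 hg
  obtain ⟨N, ι, hι⟩ := CAlgBasics.exists_injective_pi_of_isTorsionFree (MvPolynomial (Fin d) k) A
  obtain ⟨ρ, hρ⟩ := LinearMap.exists_leftInverse_of_injective (ι.restrictScalars k) (LinearMap.ker_eq_bot.2 hι)
  let G : R ⊗[k] MvPolynomial (Fin d) k →ₐ[R] R ⊗[k] A := Algebra.TensorProduct.map (AlgHom.id R R) g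
  letI : Algebra (R ⊗[k] MvPolynomial (Fin d) k) (R ⊗[k] A) := G.toRingHom.toAlgebra
  haveI : IsScalarTower R (R ⊗[k] MvPolynomial (Fin d) k) (R ⊗[k] A) := .of_algebraMap_eq fun x => (G.commutes x).symm
  haveI : SMulCommClass R (R ⊗[k] MvPolynomial (Fin d) k) (R ⊗[k] A) :=
    ⟨fun r b x => by rw [Algebra.smul_def b, Algebra.smul_def b, mul_smul_comm]⟩
  haveI : Module.Finite (R ⊗[k] MvPolynomial (Fin d) k) (R ⊗[k] A) := by
    obtain ⟨s, hs⟩ := (Module.Finite.fg_top : (⊤ : Submodule (MvPolynomial (Fin d) k) A).FG)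
    refine ⟨⟨s.image fun a => (1 : R) ⊗ₜ[k] a, ?_⟩⟩
    rw [eq_top_iff]
    rintro x -
    induction x using TensorProduct.induction_on with
    | zero => exact zero_mem _
    | add x y hx hy => exact add_mem hx hy
    | tmul r a =>
      have ha : a ∈ Submodule.span (MvPolynomial (Fin d) k) (s : Set A) := hs ▸ Submodule.mem_top
      induction ha using Submodule.span_induction generalizing r with
      | mem a ha =>
        have h1 : r ⊗ₜ[k] a = (r ⊗ₜ[k] (1 : MvPolynomial (Fin d) k)) • ((1 : R) ⊗ₜ[k] a : R ⊗[k] A) := by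
          rw [Algebra.smul_def]
          show _ = G (r ⊗ₜ 1) * _
          simp [G, Algebra.TensorProduct.tmul_mul_tmul]
        rw [h1]
        exact Submodule.smul_mem _ _ (Submodule.subset_span (by simpa using ⟨a, ha, rfl⟩))
      | zero => rw [TensorProduct.tmul_zero]; exact zero_mem _
      | add a b _ _ ha hb => rw [TensorProduct.tmul_add]; exact add_mem (ha r) (hb r)
      | smul c a _ ha =>
        have h1 : r ⊗ₜ[k] (c • a) = ((1 : R) ⊗ₜ[k] c) • (r ⊗ₜ[k] a : R ⊗[k] A) := by
          rw [Algebra.smul_def]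
          show _ = G (1 ⊗ₜ c) * _
          simp [G, Algebra.TensorProduct.tmul_mul_tmul, Algebra.smul_def]
          rfl
        rw [h1]
        exact Submodule.smul_mem _ _ (ha r)
  -- coordinates
  have hΨ0 : ∀ i, ∃ Ψ : R ⊗[k] A →ₗ[R ⊗[k] MvPolynomial (Fin d) k] R ⊗[k] MvPolynomial (Fin d) k,
      ∀ r a, Ψ (r ⊗ₜ a) = r ⊗ₜ (ι a i) := by
    intro i
    let Φ : R ⊗[k] A →ₗ[k] R ⊗[k] MvPolynomial (Fin d) k :=
      (((LinearMap.proj i).comp ι).restrictScalars k).lTensor R
    refine ⟨{ toFun := Φ, map_add' := map_add Φ, map_smul' := fun c t => ?_ }, fun r a => rfl⟩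
    rw [Algebra.smul_def]
    show Φ (G c * t) = c * Φ t
    induction c using TensorProduct.induction_on with
    | zero => simp
    | add x y hx hy => rw [map_add, add_mul, map_add, hx, hy, add_mul]
    | tmul b z =>
      induction t using TensorProduct.induction_on with
      | zero => simp
      | add x y hx hy => rw [mul_add, map_add, hx, hy, map_add, mul_add]
      | tmul b' a =>
        have e : g z * a = z • a := (Algebra.smul_def z a).symm
        simp only [G, Φ, Algebra.TensorProduct.map_tmul, AlgHom.coe_id, id_eq,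
          Algebra.TensorProduct.tmul_mul_tmul, LinearMap.lTensor_tmul,
          LinearMap.coe_restrictScalars, LinearMap.coe_comp, Function.comp_apply, LinearMap.proj_apply, e,
          map_smul, Pi.smul_apply, smul_eq_mul]
  choose Ψ hΨ using hΨ0
  let J : Fin N → ((R ⊗[k] A) ⊗[R] M →ₗ[R ⊗[k] MvPolynomial (Fin d) k] (R ⊗[k] MvPolynomial (Fin d) k) ⊗[R] M) :=
    fun i => AlgebraTensorModule.map (Ψ i) LinearMap.id
  let T : Fin N → (R ⊗[k] MvPolynomial (Fin d) k →ₗ[R] R ⊗[k] A) := fun i =>
    AlgebraTensorModule.lTensor R R (ρ.comp (LinearMap.single k (fun _ : Fin N => MvPolynomial (Fin d) k) i))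
  have hid : ∀ x : (R ⊗[k] A) ⊗[R] M, ∑ i, (T i).rTensor M (J i x) = x := by
    intro x
    induction x using TensorProduct.induction_on with
    | zero => simp
    | add x y hx hy => simp only [map_add, Finset.sum_add_distrib, hx, hy]
    | tmul c m =>
      simp only [J, AlgebraTensorModule.map_tmul, LinearMap.id_apply, LinearMap.rTensor_tmul, ← TensorProduct.sum_tmul]
      congr 1
      induction c using TensorProduct.induction_on with
      | zero => simp
      | add x y hx hy => simp only [map_add, Finset.sum_add_distrib, hx, hy]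
      | tmul r a =>
        simp only [T, hΨ, AlgebraTensorModule.lTensor_tmul, LinearMap.comp_apply, LinearMap.single_apply,
          ← TensorProduct.tmul_sum, ← map_sum, Finset.univ_sum_single]
        exact congrArg (r ⊗ₜ ·) (LinearMap.congr_fun hρ a)
  obtain ⟨z, hz1, hz2⟩ := exists_isolated (A := R ⊗[k] MvPolynomial (Fin d) k) q hq
  have hw : Wit (q.under (R ⊗[k] MvPolynomial (Fin d) k)) z :=
    ⟨fun r hr => by_contra fun h => hz1 r h hr, hz2⟩
  obtain ⟨i, -, hi⟩ := exists_wit_of_family (M := (R ⊗[k] MvPolynomial (Fin d) k) ⊗[R] M) Finset.univ J inferInstance (z := z) (fun a ha => by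
    rw [← hid (a • z)]
    refine Finset.sum_eq_zero fun i _ => ?_
    rw [map_smul, ha i (Finset.mem_univ i), map_zero]) hw
  have h1 : q.under (R ⊗[k] MvPolynomial (Fin d) k) ∈
      FlatCA.weakAss (R ⊗[k] MvPolynomial (Fin d) k) ((R ⊗[k] MvPolynomial (Fin d) k) ⊗[R] M) :=
    mem_weakAss.2 ⟨inferInstance, _, hi⟩
  have h2 := under_mem_weakAss_geomIntegral (fun κ => by
    intro _ _
    exact (MvPolynomial.algebraTensorAlgEquiv k κ (σ := Fin d)).toMulEquiv.isDomain _) _ h1
  rwa [Ideal.under_under] at h2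

/-- Weakly associated primes of an extension of scalars along a field extension lie over weakly
associated primes. -/
theorem under_mem_weakAss_field {K : Type u} [Field K] [Algebra k K] {RK : Type u} [CommRing RK] [Algebra k RK]
    [Algebra K RK] [Algebra R RK] [IsScalarTower k K RK] [IsScalarTower k R RK] [Algebra.IsPushout k K R RK]
    {MK : Type u} [AddCommGroup MK] [Module RK MK] [Module R MK] [IsScalarTower R RK MK]
    (f : M →ₗ[R] MK) (hf : IsBaseChange RK f) (q : Ideal RK) (hq : q ∈ FlatCA.weakAss RK MK) :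
    q.under R ∈ FlatCA.weakAss R M := by
  classical
  obtain ⟨z, hz⟩ := hq
  haveI : q.IsPrime := hz.1.1
  let L : K →ₐ[k] RK := IsScalarTower.toAlgHom k K RK
  let ψ : ∀ S : Subalgebra k K, R ⊗[k] S →ₐ[R] RK := fun S =>
    Algebra.TensorProduct.lift (Algebra.ofId R RK) (L.comp S.val) fun _ _ => Commute.all _ _
  -- elements are defined over finitely generated subalgebras
  have hb : ∀ b : RK, ∃ s : Finset K, ∀ S : Subalgebra k K, (s : Set K) ⊆ S → b ∈ (ψ S).range := by
    haveI : Algebra.IsPushout k R K RK := Algebra.IsPushout.symm inferInstance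
    intro b
    obtain ⟨w, rfl⟩ := (Algebra.IsPushout.equiv k R K RK).surjective b
    induction w using TensorProduct.induction_on with
    | zero => exact ⟨∅, fun S _ => by rw [map_zero]; exact zero_mem _⟩
    | add x y hx hy =>
      obtain ⟨s₁, h₁⟩ := hx
      obtain ⟨s₂, h₂⟩ := hy
      refine ⟨s₁ ∪ s₂, fun S hS => ?_⟩
      rw [Finset.coe_union, Set.union_subset_iff] at hS
      rw [map_add]
      exact add_mem (h₁ S hS.1) (h₂ S hS.2)
    | tmul r c =>
      refine ⟨{c}, fun S hS => ⟨r ⊗ₜ ⟨c, hS (by simp)⟩, ?_⟩⟩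
      simp [ψ, L, Algebra.IsPushout.equiv_tmul]
  let g₀ : ∀ S : Subalgebra k K, (R ⊗[k] S) ⊗[R] M →ₗ[R] MK := fun S =>
    TensorProduct.lift (((LinearMap.lsmul RK MK).restrictScalars₁₂ R R).compl₂ f |>.comp (ψ S).toLinearMap)
  have hz' : ∀ z : MK, ∃ s : Finset K, ∀ S : Subalgebra k K, (s : Set K) ⊆ S → z ∈ LinearMap.range (g₀ S) := by
    intro z
    have hg₀ : ∀ S c m, g₀ S (c ⊗ₜ m) = ψ S c • f m := fun S c m => rfl
    induction z using hf.inductionOn with
    | zero => exact ⟨∅, fun S _ => zero_mem _⟩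
    | tmul m => exact ⟨∅, fun S _ => ⟨1 ⊗ₜ m, by rw [hg₀, map_one, one_smul]⟩⟩
    | smul b x hx =>
      obtain ⟨s₁, h₁⟩ := hb b
      obtain ⟨s₂, h₂⟩ := hx
      refine ⟨s₁ ∪ s₂, fun S hS => ?_⟩
      rw [Finset.coe_union, Set.union_subset_iff] at hS
      obtain ⟨c, rfl⟩ := h₁ S hS.1
      obtain ⟨y, rfl⟩ := h₂ S hS.2
      refine ⟨c • y, ?_⟩
      clear h₂
      induction y using TensorProduct.induction_on with
      | zero => rw [smul_zero, map_zero, smul_zero]
      | add y₁ y₂ e₁ e₂ => rw [smul_add, map_add, e₁, e₂, map_add, smul_add]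
      | tmul d m => rw [TensorProduct.smul_tmul', smul_eq_mul, hg₀, hg₀, map_mul, mul_smul]; rfl
    | add x y hx hy =>
      obtain ⟨s₁, h₁⟩ := hx
      obtain ⟨s₂, h₂⟩ := hy
      refine ⟨s₁ ∪ s₂, fun S hS => ?_⟩
      rw [Finset.coe_union, Set.union_subset_iff] at hS
      exact add_mem (h₁ S hS.1) (h₂ S hS.2)
  obtain ⟨s, hs⟩ := hz' z
  let S : Subalgebra k K := Algebra.adjoin k (s : Set K)
  haveI : Algebra.FiniteType k S :=
    (Subalgebra.fg_iff_finiteType S).1 ⟨s, rfl⟩
  obtain ⟨z₀, hz₀⟩ := hs S Algebra.subset_adjoin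
  -- the flat map `R ⊗ S → RK`
  letI : Algebra (R ⊗[k] S) RK := (ψ S).toRingHom.toAlgebra
  haveI : IsScalarTower R (R ⊗[k] S) RK := .of_algebraMap_eq fun x => ((ψ S).commutes x).symm
  haveI : Module.Flat S K := by
    letI : Algebra (FractionRing S) K := FractionRing.liftAlgebra S K
    haveI : IsScalarTower S (FractionRing S) K := inferInstance
    exact Module.Flat.trans S (FractionRing S) K
  letI : Algebra S (R ⊗[k] S) := Algebra.TensorProduct.rightAlgebra
  haveI : IsScalarTower k S (R ⊗[k] S) := .of_algebraMap_eq fun x => by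
    show algebraMap k (R ⊗[k] S) x = 1 ⊗ₜ algebraMap k S x
    rw [Algebra.TensorProduct.algebraMap_apply, Algebra.algebraMap_eq_smul_one, TensorProduct.smul_tmul,
      ← Algebra.algebraMap_eq_smul_one]
  haveI : IsScalarTower k (R ⊗[k] S) RK := IsScalarTower.to₁₃₄ k R (R ⊗[k] S) RK
  haveI : IsScalarTower S (R ⊗[k] S) RK := .of_algebraMap_eq fun x => by
    show algebraMap K RK (x : K) = ψ S (1 ⊗ₜ x)
    simp [ψ, L]
  haveI : Algebra.IsPushout k S R (R ⊗[k] S) := Algebra.IsPushout.symm inferInstance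
  haveI : Algebra.IsPushout S K (R ⊗[k] S) RK :=
    (Algebra.IsPushout.comp_iff (R := k) (S := S) (R' := R) (S' := R ⊗[k] S) (T := K) (T' := RK)).1 inferInstance
  haveI : Module.Flat (R ⊗[k] S) RK := by
    haveI : Algebra.IsPushout S (R ⊗[k] S) K RK := Algebra.IsPushout.symm inferInstance
    exact Module.Flat.isBaseChange S (R ⊗[k] S) K RK (Algebra.IsPushout.out (R := S) (S := R ⊗[k] S) (R' := K))
  -- `MK` is the extension of scalars of `(R ⊗ S) ⊗ M`
  letI : Module (R ⊗[k] S) MK := Module.compHom MK (ψ S).toRingHom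
  haveI : IsScalarTower (R ⊗[k] S) RK MK := .of_algebraMap_smul fun _ _ => rfl
  haveI : IsScalarTower R (R ⊗[k] S) MK := ⟨fun r x m => by
    show ψ S (r • x) • m = r • (ψ S x • m)
    rw [map_smul, smul_assoc]⟩
  let g : (R ⊗[k] S) ⊗[R] M →ₗ[R ⊗[k] S] MK := f.liftBaseChange (R ⊗[k] S)
  have hg : IsBaseChange RK g := by
    refine IsBaseChange.of_comp (R := R) (TensorProduct.isBaseChange R M (R ⊗[k] S)) ?_
    convert hf using 1
    ext m
    simp [g]
  have hgz : g z₀ = z := by
    rw [← hz₀]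
    refine LinearMap.congr_fun (f := g.restrictScalars R) (g := g₀ S) (TensorProduct.ext' fun c m => ?_) z₀
    show g (c ⊗ₜ m) = ψ S c • f m
    rw [LinearMap.liftBaseChange_tmul]
    rfl
  have h1 : q ∈ (Submodule.span RK {(1 : RK) ⊗ₜ[R ⊗[k] S] z₀}).annihilator.minimalPrimes := by
    rw [← ann_equiv hg.equiv ((1 : RK) ⊗ₜ[R ⊗[k] S] z₀), IsBaseChange.equiv_tmul, one_smul, hgz]
    exact hz
  have h2 := under_mem_weakAss_fg (q.under (R ⊗[k] S)) ⟨z₀, under_minimalPrimes_of_flat z₀ q h1⟩
  rwa [Ideal.under_under] at h2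

end Groth.Agent.WeakAssFieldLib
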